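import Groth.Agent.Lib.Helper28.EffDescF.GlueAbs
import Groth.Agent.Lib.Helper28.EffDesc.Local

/-!
# Effective descent (helper28): from local quotients to a global quotient, fppf version
-/

set_option autoImplicit false
set_option maxHeartbeats 1600000
set_option backward.isDefEq.respectTransparency false
set_option backward.isDefEq.respectTransparency.types false
universe u
open CategoryTheory CategoryTheory.Limits AlgebraicGeometry

namespace Groth.Agent.Lib.Helper28.EffDescF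

open Desc Groth.Agent.Lib.Helper28.EffDesc

variable {X S : Scheme.{u}} {p : X ⟶ S} (D : SchDD p)

/-- local invariance of a morphism out of the part of `D` over `j` -/
def IsLocInv {S₁ Z : Scheme.{u}} (j : S₁ ⟶ S) (f : pullback (D.obj.hom ≫ p) j ⟶ Z) : Prop :=
  ∀ ⦃T : Scheme.{u}⦄ (x₀ x₁ : T ⟶ X) (h : x₀ ≫ p = x₁ ≫ p) (v : Lifts D.obj x₀)
    (v₁ w₁ : T ⟶ pullback (D.obj.hom ≫ p) j),
    v₁ ≫ pullback.fst (D.obj.hom ≫ p) j = v.1 →
    w₁ ≫ pullback.fst (D.obj.hom ≫ p) j = (D.φ x₀ x₁ h v).1 →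
    v₁ ≫ pullback.snd (D.obj.hom ≫ p) j = w₁ ≫ pullback.snd (D.obj.hom ≫ p) j →
    w₁ ≫ f = v₁ ≫ f

theorem localQuot_iff {S₁ : Scheme.{u}} (j : S₁ ⟶ S) :
    LocalQuot D j ↔ ∃ (U₁ : Scheme.{u}) (u₁ : U₁ ⟶ S₁) (q₁ : pullback (D.obj.hom ≫ p) j ⟶ U₁),
      IsPullback (pullback.fst (D.obj.hom ≫ p) j ≫ D.obj.hom) q₁ p (u₁ ≫ j) ∧ IsLocInv D j q₁ :=
  Iff.rfl

/-- the local quotient property -/
theorem local_desc [Flat p] [Surjective p] [LocallyOfFinitePresentation p] {S₁ : Scheme.{u}} (j : S₁ ⟶ S) [Mono j]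
    {U₁ : Scheme.{u}} (u₁ : U₁ ⟶ S₁) (q₁ : pullback (D.obj.hom ≫ p) j ⟶ U₁)
    (hpb : IsPullback (pullback.fst (D.obj.hom ≫ p) j ≫ D.obj.hom) q₁ p (u₁ ≫ j))
    (hinv : IsLocInv D j q₁) {Z : Scheme.{u}} (f : pullback (D.obj.hom ≫ p) j ⟶ Z)
    (hf : IsLocInv D j f) : ∃ g : U₁ ⟶ Z, q₁ ≫ g = f := by
  haveI : Flat q₁ := MorphismProperty.of_isPullback (P := @Flat) hpb inferInstance
  haveI : Surjective q₁ := MorphismProperty.of_isPullback (P := @Surjective) hpb inferInstance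
  haveI : LocallyOfFinitePresentation q₁ := MorphismProperty.of_isPullback (P := @LocallyOfFinitePresentation) hpb inferInstance
  have hqu : q₁ ≫ u₁ = pullback.snd (D.obj.hom ≫ p) j := by
    rw [← cancel_mono j, Category.assoc, ← hpb.w, Category.assoc, pullback.condition]
  refine ⟨EffectiveEpi.desc q₁ f (fun {T} g₁ g₂ hg => ?_), EffectiveEpi.fac _ _ _⟩
  have h : (g₁ ≫ pullback.fst (D.obj.hom ≫ p) j ≫ D.obj.hom) ≫ p =
      (g₂ ≫ pullback.fst (D.obj.hom ≫ p) j ≫ D.obj.hom) ≫ p := by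
    have e := hpb.w
    calc (g₁ ≫ pullback.fst (D.obj.hom ≫ p) j ≫ D.obj.hom) ≫ p
        = g₁ ≫ (pullback.fst (D.obj.hom ≫ p) j ≫ D.obj.hom) ≫ p := by simp only [Category.assoc]
      _ = (g₁ ≫ q₁) ≫ u₁ ≫ j := by rw [e, Category.assoc]
      _ = (g₂ ≫ q₁) ≫ u₁ ≫ j := by rw [hg]
      _ = g₂ ≫ (pullback.fst (D.obj.hom ≫ p) j ≫ D.obj.hom) ≫ p := by rw [e, Category.assoc]
      _ = _ := by simp only [Category.assoc]
  have hsnd : g₁ ≫ pullback.snd (D.obj.hom ≫ p) j = g₂ ≫ pullback.snd (D.obj.hom ≫ p) j := by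
    rw [← hqu, ← Category.assoc, hg, Category.assoc]
  obtain ⟨v, hv⟩ : ∃ v : Lifts D.obj (g₁ ≫ pullback.fst (D.obj.hom ≫ p) j ≫ D.obj.hom),
      v.1 = g₁ ≫ pullback.fst (D.obj.hom ≫ p) j := ⟨⟨_, Category.assoc _ _ _⟩, rfl⟩
  have hc : (D.φ _ _ h v).1 ≫ D.obj.hom ≫ p = (g₁ ≫ pullback.snd (D.obj.hom ≫ p) j) ≫ j := by
    rw [← Category.assoc, phi_hom, ← h, Category.assoc, Category.assoc, Category.assoc,
      pullback.condition]
  have e1 : pullback.lift (D.φ _ _ h v).1 (g₁ ≫ pullback.snd (D.obj.hom ≫ p) j) hc ≫ q₁ = g₁ ≫ q₁ :=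
    hinv _ _ h v g₁ _ hv.symm (pullback.lift_fst _ _ _) (pullback.lift_snd _ _ _).symm
  have e2 : pullback.lift (D.φ _ _ h v).1 (g₁ ≫ pullback.snd (D.obj.hom ≫ p) j) hc = g₂ := by
    apply hpb.hom_ext
    · rw [← Category.assoc, pullback.lift_fst, phi_hom]
    · rw [e1, hg]
  have e3 : pullback.lift (D.φ _ _ h v).1 (g₁ ≫ pullback.snd (D.obj.hom ≫ p) j) hc ≫ f = g₁ ≫ f :=
    hf _ _ h v g₁ _ hv.symm (pullback.lift_fst _ _ _) (pullback.lift_snd _ _ _).symm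
  rw [e2] at e3
  exact e3.symm

/-- local quotients over all affine opens of the base glue to a global quotient -/
theorem exists_quot_of_local [Flat p] [Surjective p] [LocallyOfFinitePresentation p]
    (hloc : ∀ W : S.affineOpens, LocalQuot D W.1.ι) :
    ∃ (U : Scheme.{u}) (u : U ⟶ S) (q : D.obj.left ⟶ U), IsPullback D.obj.hom q p u ∧ IsInv D q := by
  choose U u q hpb hinv using hloc
  have : Small.{u} S.directedAffineCover.I₀ := inferInstanceAs (Small.{u} S.affineOpens)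
  have hτ : ∀ {i j : S.directedAffineCover.I₀} (hij : i ⟶ j), ∃ τ : U i ⟶ U j,
      q i ≫ τ = tmap S.directedAffineCover (D.obj.hom ≫ p) hij ≫ q j := by
    intro i j hij
    refine local_desc D (S.directedAffineCover.f i) (u i) (q i) (hpb i) (hinv i) _ ?_
    intro T x₀ x₁ h v v₁ w₁ hv hw hs
    rw [← Category.assoc, ← Category.assoc]
    refine hinv j x₀ x₁ h v (v₁ ≫ tmap S.directedAffineCover (D.obj.hom ≫ p) hij)
      (w₁ ≫ tmap S.directedAffineCover (D.obj.hom ≫ p) hij) ?_ ?_ ?_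
    · rw [Category.assoc]
      exact (congrArg (v₁ ≫ ·) (tmap_fst S.directedAffineCover (D.obj.hom ≫ p) hij)).trans hv
    · rw [Category.assoc]
      exact (congrArg (w₁ ≫ ·) (tmap_fst S.directedAffineCover (D.obj.hom ≫ p) hij)).trans hw
    · rw [Category.assoc, Category.assoc]
      refine (congrArg (v₁ ≫ ·) (tmap_snd S.directedAffineCover (D.obj.hom ≫ p) hij)).trans ?_
      refine Eq.trans ?_ (congrArg (w₁ ≫ ·) (tmap_snd S.directedAffineCover (D.obj.hom ≫ p) hij)).symm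
      exact (Category.assoc _ _ _).symm.trans
        ((congrArg (· ≫ S.directedAffineCover.trans hij) hs).trans (Category.assoc _ _ _))
  obtain ⟨U', u', q', hPB, hι⟩ :=
    glue_quot D.obj.hom p S.directedAffineCover U u q hpb hτ
  refine ⟨U', u', q', hPB, ?_⟩
  intro T x₀ x₁ h v
  apply Scheme.Cover.hom_ext (S.directedAffineCover.pullback₁ (x₀ ≫ p))
  intro i
  obtain ⟨ι, hιi⟩ := hι i
  change pullback.fst (x₀ ≫ p) i.1.ι ≫ (D.φ x₀ x₁ h v).1 ≫ q' =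
    pullback.fst (x₀ ≫ p) i.1.ι ≫ v.1 ≫ q'
  have h' : (pullback.fst (x₀ ≫ p) i.1.ι ≫ x₀) ≫ p = (pullback.fst (x₀ ≫ p) i.1.ι ≫ x₁) ≫ p := by
    rw [Category.assoc, Category.assoc, h]
  obtain ⟨v', hv'⟩ : ∃ v' : Lifts D.obj (pullback.fst (x₀ ≫ p) i.1.ι ≫ x₀),
      v'.1 = pullback.fst (x₀ ≫ p) i.1.ι ≫ v.1 :=
    ⟨⟨pullback.fst (x₀ ≫ p) i.1.ι ≫ v.1, by rw [Category.assoc, v.2]⟩, rfl⟩
  have hnat : (D.φ _ _ h' v').1 = pullback.fst (x₀ ≫ p) i.1.ι ≫ (D.φ x₀ x₁ h v).1 :=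
    D.φ_natural _ x₀ x₁ h h' v v' hv'
  have c1 : (pullback.fst (x₀ ≫ p) i.1.ι ≫ v.1) ≫ D.obj.hom ≫ p =
      pullback.snd (x₀ ≫ p) i.1.ι ≫ i.1.ι := by
    rw [Category.assoc, ← Category.assoc v.1, v.2, pullback.condition]
  have c2 : (pullback.fst (x₀ ≫ p) i.1.ι ≫ (D.φ x₀ x₁ h v).1) ≫ D.obj.hom ≫ p =
      pullback.snd (x₀ ≫ p) i.1.ι ≫ i.1.ι := by
    rw [Category.assoc, ← Category.assoc _ D.obj.hom, phi_hom, ← h, pullback.condition]
  have key : pullback.lift _ _ c2 ≫ q i = pullback.lift _ _ c1 ≫ q i :=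
    hinv i _ _ h' v' (pullback.lift _ _ c1) (pullback.lift _ _ c2)
      ((pullback.lift_fst _ _ _).trans hv'.symm) ((pullback.lift_fst _ _ _).trans hnat.symm)
      ((pullback.lift_snd _ _ _).trans (pullback.lift_snd _ _ _).symm)
  have hιi' : pullback.fst (D.obj.hom ≫ p) i.1.ι ≫ q' = q i ≫ ι := hιi
  calc pullback.fst (x₀ ≫ p) i.1.ι ≫ (D.φ x₀ x₁ h v).1 ≫ q'
      = pullback.lift _ _ c2 ≫ pullback.fst (D.obj.hom ≫ p) i.1.ι ≫ q' := by
        rw [← Category.assoc, ← Category.assoc, pullback.lift_fst]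
    _ = pullback.lift _ _ c2 ≫ q i ≫ ι := by rw [hιi']
    _ = pullback.lift _ _ c1 ≫ q i ≫ ι := by rw [← Category.assoc, key, Category.assoc]
    _ = pullback.lift _ _ c1 ≫ pullback.fst (D.obj.hom ≫ p) i.1.ι ≫ q' := by rw [hιi']
    _ = pullback.fst (x₀ ≫ p) i.1.ι ≫ v.1 ≫ q' := by
        rw [← Category.assoc, ← Category.assoc, pullback.lift_fst]

end Groth.Agent.Lib.Helper28.EffDescF
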