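import Mathlib

/-!
# Effective descent (helper28): gluing cartesian quotients over a locally directed open cover of the base

* `isIso_of_two_quot`: two cartesian squares over the same fppf morphism with the same top-left corner, compared
  by a morphism, are isomorphic.
* `isPullback_of_local`: a commutative square is cartesian if it is so Zariski-locally on the base.
* `glue_quot`: cartesian quotients over the members of a locally directed open cover, with transition maps, glue.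
-/

set_option autoImplicit false
set_option maxHeartbeats 1600000
set_option backward.isDefEq.respectTransparency false
set_option backward.isDefEq.respectTransparency.types false
universe u
open CategoryTheory CategoryTheory.Limits AlgebraicGeometry

namespace Groth.Agent.Lib.Helper28.EffDescF

theorem isIso_of_two_quot {V X S U₁ U₂ : Scheme.{u}} {α : V ⟶ X} {p : X ⟶ S} [Flat p] [Surjective p]
    [LocallyOfFinitePresentation p] {q₁ : V ⟶ U₁} {s₁ : U₁ ⟶ S} {q₂ : V ⟶ U₂} {s₂ : U₂ ⟶ S}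
    (h₁ : IsPullback α q₁ p s₁) (h₂ : IsPullback α q₂ p s₂) (k : U₁ ⟶ U₂) (hk : q₁ ≫ k = q₂)
    (hs : k ≫ s₂ = s₁) : IsIso k := by
  have hQ : (@Surjective ⊓ @Flat ⊓ @LocallyOfFinitePresentation : MorphismProperty Scheme.{u}) q₂ :=
    ⟨⟨MorphismProperty.of_isPullback (P := @Surjective) h₂ inferInstance,
      MorphismProperty.of_isPullback (P := @Flat) h₂ inferInstance⟩,
      MorphismProperty.of_isPullback (P := @LocallyOfFinitePresentation) h₂ inferInstance⟩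
  have h₁' : IsPullback (𝟙 V ≫ α) q₁ p (k ≫ s₂) := by
    rw [Category.id_comp, hs]; exact h₁
  have sq : IsPullback (𝟙 V) q₁ q₂ k :=
    IsPullback.of_right h₁' (by rw [Category.id_comp, hk]) h₂
  exact MorphismProperty.of_isPullback_of_descendsAlong (P := MorphismProperty.isomorphisms Scheme.{u})
    (Q := (@Surjective ⊓ @Flat ⊓ @LocallyOfFinitePresentation : MorphismProperty Scheme.{u})) sq hQ
    (MorphismProperty.isomorphisms.infer_property (𝟙 V))

/-- a commutative square is cartesian if it is so locally on the base -/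
theorem isPullback_of_local {V X S U : Scheme.{u}} (a : V ⟶ X) (q : V ⟶ U) (p : X ⟶ S) (u : U ⟶ S)
    (hw : a ≫ p = q ≫ u) (𝒰 : S.OpenCover) (𝒱 : U.OpenCover) (σ : 𝒱.I₀ → 𝒰.I₀)
    (ui : ∀ i, 𝒱.X i ⟶ 𝒰.X (σ i)) (hu : ∀ i, IsPullback (𝒱.f i) (ui i) u (𝒰.f (σ i)))
    (qi : ∀ i, pullback (a ≫ p) (𝒰.f (σ i)) ⟶ 𝒱.X i)
    (hq1 : ∀ i, qi i ≫ 𝒱.f i = pullback.fst (a ≫ p) (𝒰.f (σ i)) ≫ q)
    (hpb : ∀ i, IsPullback (pullback.fst (a ≫ p) (𝒰.f (σ i)) ≫ a) (qi i) p (ui i ≫ 𝒰.f (σ i))) :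
    IsPullback a q p u := by
  suffices hc : IsIso (pullback.lift a q hw) from
    IsPullback.of_iso_pullback ⟨hw⟩ (asIso (pullback.lift a q hw)) (pullback.lift_fst _ _ _)
      (pullback.lift_snd _ _ _)
  change MorphismProperty.isomorphisms Scheme.{u} _
  refine IsZariskiLocalAtTarget.of_openCover (P := MorphismProperty.isomorphisms Scheme.{u})
    (𝒱.pullback₁ (pullback.snd p u)) (fun i => ?_)
  -- the `i`-th member of the cover of `X ×_S U`
  have hqu : qi i ≫ ui i = pullback.snd (a ≫ p) (𝒰.f (σ i)) := by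
    rw [← cancel_mono (𝒰.f (σ i)), Category.assoc, ← (hpb i).w, Category.assoc, pullback.condition]
  have h1 : IsPullback (pullback.fst (pullback.snd p u) (𝒱.f i) ≫ pullback.fst p u)
      (pullback.snd (pullback.snd p u) (𝒱.f i)) p (𝒱.f i ≫ u) :=
    (IsPullback.of_hasPullback (pullback.snd p u) (𝒱.f i)).paste_horiz (IsPullback.of_hasPullback p u)
  have h1' : IsPullback (pullback.fst (pullback.snd p u) (𝒱.f i) ≫ pullback.fst p u)
      (pullback.snd (pullback.snd p u) (𝒱.f i)) p (ui i ≫ 𝒰.f (σ i)) := by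
    rw [← (hu i).w]; exact h1
  obtain ⟨e, he1, he2⟩ : ∃ e : pullback (a ≫ p) (𝒰.f (σ i)) ≅ pullback (pullback.snd p u) (𝒱.f i),
      e.hom ≫ pullback.fst (pullback.snd p u) (𝒱.f i) ≫ pullback.fst p u =
        pullback.fst (a ≫ p) (𝒰.f (σ i)) ≫ a ∧
      e.hom ≫ pullback.snd (pullback.snd p u) (𝒱.f i) = qi i :=
    ⟨(hpb i).isoIsPullback _ _ h1', (hpb i).isoIsPullback_hom_fst _ _ h1',
      (hpb i).isoIsPullback_hom_snd _ _ h1'⟩
  have bot : IsPullback (pullback.fst (pullback.snd p u) (𝒱.f i))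
      (pullback.snd (pullback.snd p u) (𝒱.f i) ≫ ui i) (pullback.snd p u ≫ u) (𝒰.f (σ i)) :=
    (IsPullback.of_hasPullback (pullback.snd p u) (𝒱.f i)).paste_vert (hu i)
  have big : IsPullback (pullback.fst (a ≫ p) (𝒰.f (σ i)))
      (e.hom ≫ pullback.snd (pullback.snd p u) (𝒱.f i) ≫ ui i)
      (pullback.lift a q hw ≫ pullback.snd p u ≫ u) (𝒰.f (σ i)) := by
    have e1 : e.hom ≫ pullback.snd (pullback.snd p u) (𝒱.f i) ≫ ui i =
        pullback.snd (a ≫ p) (𝒰.f (σ i)) := by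
      rw [← Category.assoc, he2, hqu]
    have e2 : pullback.lift a q hw ≫ pullback.snd p u ≫ u = a ≫ p := by
      rw [← Category.assoc, pullback.lift_snd, hw]
    rw [e1, e2]
    exact IsPullback.of_hasPullback _ _
  have comm : pullback.fst (a ≫ p) (𝒰.f (σ i)) ≫ pullback.lift a q hw =
      e.hom ≫ pullback.fst (pullback.snd p u) (𝒱.f i) := by
    apply pullback.hom_ext
    · rw [Category.assoc, pullback.lift_fst, Category.assoc, he1]
    · rw [Category.assoc, pullback.lift_snd, Category.assoc, pullback.condition, ← Category.assoc,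
        he2, hq1]
  have sq : IsPullback (pullback.fst (a ≫ p) (𝒰.f (σ i))) e.hom (pullback.lift a q hw)
      (pullback.fst (pullback.snd p u) (𝒱.f i)) := IsPullback.of_bot big comm bot
  have hsnd : pullback.snd (pullback.lift a q hw) (pullback.fst (pullback.snd p u) (𝒱.f i)) =
      sq.isoPullback.inv ≫ e.hom := by
    rw [Iso.eq_inv_comp, sq.isoPullback_hom_snd]
  change IsIso (pullback.snd (pullback.lift a q hw) (pullback.fst (pullback.snd p u) (𝒱.f i)))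
  rw [hsnd]
  infer_instance

section Glue

variable {V X S : Scheme.{u}}

/-- the transition maps of the pulled back cover -/
noncomputable def tmap (𝒰 : S.OpenCover) [Category 𝒰.I₀] [𝒰.LocallyDirected] (b : V ⟶ S)
    {i j : 𝒰.I₀} (hij : i ⟶ j) : pullback b (𝒰.f i) ⟶ pullback b (𝒰.f j) :=
  pullback.map b (𝒰.f i) b (𝒰.f j) (𝟙 _) (𝒰.trans hij) (𝟙 _) (by simp) (by simp)

theorem tmap_fst (𝒰 : S.OpenCover) [Category 𝒰.I₀] [𝒰.LocallyDirected] (b : V ⟶ S)
    {i j : 𝒰.I₀} (hij : i ⟶ j) :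
    tmap 𝒰 b hij ≫ pullback.fst b (𝒰.f j) = pullback.fst b (𝒰.f i) := by
  simp [tmap]

theorem tmap_snd (𝒰 : S.OpenCover) [Category 𝒰.I₀] [𝒰.LocallyDirected] (b : V ⟶ S)
    {i j : 𝒰.I₀} (hij : i ⟶ j) :
    tmap 𝒰 b hij ≫ pullback.snd b (𝒰.f j) = pullback.snd b (𝒰.f i) ≫ 𝒰.trans hij := by
  simp [tmap]

theorem tmap_eq (𝒰 : S.OpenCover) [Category 𝒰.I₀] [𝒰.LocallyDirected] (b : V ⟶ S)
    {i j : 𝒰.I₀} (hij : i ⟶ j) : Scheme.Cover.trans (𝒰.pullback₁ b) hij = tmap 𝒰 b hij := rfl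

theorem tmap_id (𝒰 : S.OpenCover) [Category 𝒰.I₀] [𝒰.LocallyDirected] (b : V ⟶ S) (i : 𝒰.I₀) :
    tmap 𝒰 b (𝟙 i) = 𝟙 _ := by
  apply pullback.hom_ext
  · rw [tmap_fst, Category.id_comp]
  · rw [tmap_snd, 𝒰.trans_id, Category.comp_id, Category.id_comp]

theorem tmap_comp (𝒰 : S.OpenCover) [Category 𝒰.I₀] [𝒰.LocallyDirected] (b : V ⟶ S)
    {i j k : 𝒰.I₀} (hij : i ⟶ j) (hjk : j ⟶ k) :
    tmap 𝒰 b (hij ≫ hjk) = tmap 𝒰 b hij ≫ tmap 𝒰 b hjk := by
  apply pullback.hom_ext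
  · rw [tmap_fst, Category.assoc, tmap_fst, tmap_fst]
  · rw [tmap_snd, Category.assoc, tmap_snd, ← Category.assoc, tmap_snd, 𝒰.trans_comp, Category.assoc]

section Data

variable (a : V ⟶ X) (p : X ⟶ S) [Flat p] [Surjective p] [LocallyOfFinitePresentation p]
  (𝒰 : S.OpenCover) [Category 𝒰.I₀] [𝒰.LocallyDirected]
  (U : 𝒰.I₀ → Scheme.{u}) (u : ∀ i, U i ⟶ 𝒰.X i)
  (q : ∀ i, pullback (a ≫ p) (𝒰.f i) ⟶ U i)
  (hpb : ∀ i, IsPullback (pullback.fst (a ≫ p) (𝒰.f i) ≫ a) (q i) p (u i ≫ 𝒰.f i))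
  (τ : ∀ {i j : 𝒰.I₀}, (i ⟶ j) → (U i ⟶ U j))
  (hτ : ∀ {i j : 𝒰.I₀} (hij : i ⟶ j), q i ≫ τ hij = tmap 𝒰 (a ≫ p) hij ≫ q j)

include hpb in
theorem epi_qi (i : 𝒰.I₀) : Epi (q i) := by
  have : Flat (q i) := MorphismProperty.of_isPullback (P := @Flat) (hpb i) inferInstance
  have : Surjective (q i) := MorphismProperty.of_isPullback (P := @Surjective) (hpb i) inferInstance
  exact Flat.epi_of_flat_of_surjective (q i)

include hpb in
theorem qi_ui (i : 𝒰.I₀) : q i ≫ u i = pullback.snd (a ≫ p) (𝒰.f i) := by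
  rw [← cancel_mono (𝒰.f i), Category.assoc, ← (hpb i).w, Category.assoc, pullback.condition]

include hpb hτ in
theorem tau_nat {i j : 𝒰.I₀} (hij : i ⟶ j) : τ hij ≫ u j = u i ≫ 𝒰.trans hij := by
  have := epi_qi a p 𝒰 U u q hpb i
  rw [← cancel_epi (q i), ← Category.assoc, hτ, Category.assoc, qi_ui a p 𝒰 U u q hpb, tmap_snd,
    ← Category.assoc, qi_ui a p 𝒰 U u q hpb]

include hpb hτ in
theorem tau_id (i : 𝒰.I₀) : τ (𝟙 i) = 𝟙 (U i) := by
  have := epi_qi a p 𝒰 U u q hpb i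
  rw [← cancel_epi (q i), hτ, tmap_id, Category.id_comp, Category.comp_id]

include hpb hτ in
theorem tau_comp {i j k : 𝒰.I₀} (hij : i ⟶ j) (hjk : j ⟶ k) : τ (hij ≫ hjk) = τ hij ≫ τ hjk := by
  have := epi_qi a p 𝒰 U u q hpb i
  rw [← cancel_epi (q i), hτ, tmap_comp, Category.assoc, ← hτ hjk, ← Category.assoc, ← hτ hij,
    Category.assoc]

include hpb hτ in
theorem tau_equi {i j : 𝒰.I₀} (hij : i ⟶ j) : IsPullback (τ hij) (u i) (u j) (𝒰.trans hij) := by
  have hqu := qi_ui a p 𝒰 U u q hpb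
  have hnat := tau_nat a p 𝒰 U u q hpb τ hτ hij
  suffices hk : IsIso (pullback.lift (τ hij) (u i) hnat) from
    IsPullback.of_iso_pullback ⟨hnat⟩ (asIso (pullback.lift (τ hij) (u i) hnat))
      (pullback.lift_fst _ _ _) (pullback.lift_snd _ _ _)
  have big : IsPullback (tmap 𝒰 (a ≫ p) hij ≫ pullback.fst (a ≫ p) (𝒰.f j))
      (pullback.snd (a ≫ p) (𝒰.f i)) (a ≫ p) (𝒰.trans hij ≫ 𝒰.f j) := by
    rw [tmap_fst, 𝒰.trans_map]; exact IsPullback.of_hasPullback _ _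
  have left : IsPullback (tmap 𝒰 (a ≫ p) hij) (pullback.snd (a ≫ p) (𝒰.f i))
      (pullback.snd (a ≫ p) (𝒰.f j)) (𝒰.trans hij) :=
    IsPullback.of_right big (tmap_snd 𝒰 (a ≫ p) hij) (IsPullback.of_hasPullback _ _)
  have hc : (tmap 𝒰 (a ≫ p) hij ≫ q j) ≫ u j = pullback.snd (a ≫ p) (𝒰.f i) ≫ 𝒰.trans hij := by
    rw [Category.assoc, hqu, tmap_snd]
  have top : IsPullback (tmap 𝒰 (a ≫ p) hij)
      (pullback.lift (tmap 𝒰 (a ≫ p) hij ≫ q j) (pullback.snd (a ≫ p) (𝒰.f i)) hc) (q j)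
      (pullback.fst (u j) (𝒰.trans hij)) := by
    refine IsPullback.of_bot ?_ (pullback.lift_fst _ _ _).symm
      (IsPullback.of_hasPullback (u j) (𝒰.trans hij))
    rw [pullback.lift_snd, hqu]
    exact left
  have sq2 : IsPullback (pullback.fst (a ≫ p) (𝒰.f i) ≫ a)
      (pullback.lift (tmap 𝒰 (a ≫ p) hij ≫ q j) (pullback.snd (a ≫ p) (𝒰.f i)) hc) p
      (pullback.fst (u j) (𝒰.trans hij) ≫ u j ≫ 𝒰.f j) := by
    have := top.paste_horiz (hpb j)
    rw [← Category.assoc, tmap_fst] at this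
    exact this
  refine isIso_of_two_quot (hpb i) sq2 _ ?_ ?_
  · apply pullback.hom_ext
    · rw [Category.assoc, pullback.lift_fst, pullback.lift_fst, hτ]
    · rw [Category.assoc, pullback.lift_snd, pullback.lift_snd, hqu]
  · rw [← Category.assoc, pullback.lift_fst, ← Category.assoc, hnat, Category.assoc, 𝒰.trans_map]

/-- the relative gluing datum of the local quotients -/
noncomputable def quotGlueData : 𝒰.RelativeGluingData where
  functor :=
    { obj := U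
      map := fun {i j} hij => τ hij
      map_id := fun i => tau_id a p 𝒰 U u q hpb τ hτ i
      map_comp := fun {i j k} hij hjk => tau_comp a p 𝒰 U u q hpb τ hτ hij hjk }
  natTrans := { app := u, naturality := fun {i j} hij => tau_nat a p 𝒰 U u q hpb τ hτ hij }
  equifibered := fun {i j} hij => tau_equi a p 𝒰 U u q hpb τ hτ hij

variable [Small.{u} 𝒰.I₀] [Quiver.IsThin 𝒰.I₀]

include hpb hτ in
theorem glue_quot_aux :
    ∃ (U' : Scheme.{u}) (u' : U' ⟶ S) (q' : V ⟶ U'), IsPullback a q' p u' ∧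
      ∀ i, ∃ ι : U i ⟶ U', pullback.fst (a ≫ p) (𝒰.f i) ≫ q' = q i ≫ ι := by
  have hqu := qi_ui a p 𝒰 U u q hpb
  have hcompat : ∀ {i j : 𝒰.I₀} (hij : i ⟶ j),
      Scheme.Cover.trans (𝒰.pullback₁ (a ≫ p)) hij ≫ q j ≫
        colimit.ι (quotGlueData a p 𝒰 U u q hpb τ hτ).functor j =
      q i ≫ colimit.ι (quotGlueData a p 𝒰 U u q hpb τ hτ).functor i := by
    intro i j hij
    rw [tmap_eq, ← Category.assoc, ← hτ hij, Category.assoc]
    congr 1
    exact colimit.w (quotGlueData a p 𝒰 U u q hpb τ hτ).functor hij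
  obtain ⟨q', hq'⟩ : ∃ q' : V ⟶ (quotGlueData a p 𝒰 U u q hpb τ hτ).glued, ∀ i,
      pullback.fst (a ≫ p) (𝒰.f i) ≫ q' =
        q i ≫ colimit.ι (quotGlueData a p 𝒰 U u q hpb τ hτ).functor i :=
    ⟨Scheme.OpenCover.glueMorphismsOfLocallyDirected (𝒰.pullback₁ (a ≫ p))
      (fun i => q i ≫ colimit.ι (quotGlueData a p 𝒰 U u q hpb τ hτ).functor i)
      (fun {i j} hij => hcompat hij),
      fun i => Scheme.OpenCover.map_glueMorphismsOfLocallyDirected (𝒰.pullback₁ (a ≫ p)) _ _ i⟩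
  have hw : a ≫ p = q' ≫ (quotGlueData a p 𝒰 U u q hpb τ hτ).toBase := by
    apply Scheme.Cover.hom_ext (𝒰.pullback₁ (a ≫ p))
    intro i
    change pullback.fst (a ≫ p) (𝒰.f i) ≫ a ≫ p =
      pullback.fst (a ≫ p) (𝒰.f i) ≫ q' ≫ (quotGlueData a p 𝒰 U u q hpb τ hτ).toBase
    rw [← Category.assoc _ q', hq' i, Category.assoc,
      Scheme.Cover.RelativeGluingData.ι_toBase, pullback.condition]
    change _ = q i ≫ u i ≫ 𝒰.f i
    rw [← Category.assoc, hqu]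
  refine ⟨(quotGlueData a p 𝒰 U u q hpb τ hτ).glued, (quotGlueData a p 𝒰 U u q hpb τ hτ).toBase, q',
    ?_, fun i => ⟨colimit.ι (quotGlueData a p 𝒰 U u q hpb τ hτ).functor i, hq' i⟩⟩
  exact isPullback_of_local a q' p (quotGlueData a p 𝒰 U u q hpb τ hτ).toBase hw 𝒰
    (quotGlueData a p 𝒰 U u q hpb τ hτ).cover (fun i => i) (fun i => u i)
    (fun i => ((quotGlueData a p 𝒰 U u q hpb τ hτ).isPullback_natTrans_ι_toBase i).flip) q
    (fun i => (hq' i).symm) hpb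

end Data

theorem glue_quot (a : V ⟶ X) (p : X ⟶ S) [Flat p] [Surjective p] [LocallyOfFinitePresentation p]
    (𝒰 : S.OpenCover) [Category 𝒰.I₀] [𝒰.LocallyDirected] [Small.{u} 𝒰.I₀] [Quiver.IsThin 𝒰.I₀]
    (U : 𝒰.I₀ → Scheme.{u}) (u : ∀ i, U i ⟶ 𝒰.X i)
    (q : ∀ i, pullback (a ≫ p) (𝒰.f i) ⟶ U i)
    (hpb : ∀ i, IsPullback (pullback.fst (a ≫ p) (𝒰.f i) ≫ a) (q i) p (u i ≫ 𝒰.f i))
    (hτ : ∀ {i j : 𝒰.I₀} (hij : i ⟶ j), ∃ τ : U i ⟶ U j, q i ≫ τ = tmap 𝒰 (a ≫ p) hij ≫ q j) :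
    ∃ (U' : Scheme.{u}) (u' : U' ⟶ S) (q' : V ⟶ U'), IsPullback a q' p u' ∧
      ∀ i, ∃ ι : U i ⟶ U', pullback.fst (a ≫ p) (𝒰.f i) ≫ q' = q i ≫ ι := by
  choose τ hτ using @hτ
  exact glue_quot_aux a p 𝒰 U u q hpb (fun {i j} hij => τ hij) (fun {i j} hij => hτ hij)

end Glue

end Groth.Agent.Lib.Helper28.EffDescF
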